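import Mathlib
import Cfsg.Agent.Lib.Cores.Nilpotent
import Cfsg.Agent.Lib.PLocal.CyclicExtension

/-!
# Half-transitive linear `p`-groups, `p` odd, are semiregular and cyclic
-/

set_option autoImplicit false
set_option linter.unusedSectionVars false

namespace Cfsg.Agent.Involutions.HalfTransitive

open MulAction

variable {P E : Type*} [Group P] [Finite P] [AddCommGroup E] [Finite E] [DistribMulAction P E]
  [FaithfulSMul P E] {p q : ℕ} [hpf : Fact p.Prime]

omit [FaithfulSMul P E] in
theorem eq_zero_of_smul (hp : p.Prime) (hq : q.Prime) (hne : p ≠ q) (hE : ∀ e : E, q • e = 0)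
    {k : ℕ} {x : E} (h : p ^ k • x = 0) : x = 0 := by
  have h1 := addOrderOf_dvd_of_nsmul_eq_zero h
  have h2 := addOrderOf_dvd_of_nsmul_eq_zero (hE x)
  exact AddMonoid.addOrderOf_eq_one_iff.1
    (Nat.eq_one_of_dvd_coprimes (((Nat.coprime_primes hp hq).2 hne).pow_left k) h1 h2)

/-- The sum over a finite subgroup. -/
noncomputable def trace (N : Subgroup P) : E →+ E :=
  haveI := Fintype.ofFinite N
  ∑ n : N, DistribSMul.toAddMonoidHom E (n : P)

omit [Finite E] [FaithfulSMul P E] in
theorem trace_apply (N : Subgroup P) [Fintype N] (x : E) : trace N x = ∑ n : N, (n : P) • x := by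
  unfold trace
  simp only [AddMonoidHom.finsetSum_apply, DistribSMul.toAddMonoidHom_apply]
  convert rfl

omit [Finite E] [FaithfulSMul P E] in
theorem smul_trace {N : Subgroup P} {n : P} (hn : n ∈ N) (x : E) : n • trace N x = trace N x := by
  haveI := Fintype.ofFinite N
  rw [trace_apply, Finset.smul_sum]
  exact Fintype.sum_equiv (Equiv.mulLeft (⟨n, hn⟩ : N)) _ _ fun m => by
    rw [Equiv.coe_mulLeft, Subgroup.coe_mul, mul_smul]

omit [Finite E] [FaithfulSMul P E] in
theorem trace_smul_self {N : Subgroup P} {n : P} (hn : n ∈ N) (x : E) :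
    trace N (n • x) = trace N x := by
  haveI := Fintype.ofFinite N
  rw [trace_apply, trace_apply]
  exact Fintype.sum_equiv (Equiv.mulRight (⟨n, hn⟩ : N)) _ _ fun m => by
    rw [Equiv.coe_mulRight, Subgroup.coe_mul, mul_smul]

omit [Finite E] [FaithfulSMul P E] in
theorem trace_conj {N M : Subgroup P} {g : P} (h : ∀ n, n ∈ N ↔ g * n * g⁻¹ ∈ M) (x : E) :
    trace M (g • x) = g • trace N x := by
  haveI := Fintype.ofFinite N
  haveI := Fintype.ofFinite M
  rw [trace_apply, trace_apply, Finset.smul_sum]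
  refine (Fintype.sum_equiv
    { toFun := fun n : N => (⟨g * n * g⁻¹, (h n).1 n.2⟩ : M)
      invFun := fun m => ⟨g⁻¹ * m * g, (h _).2 (by simpa [mul_assoc] using m.2)⟩
      left_inv := fun n => Subtype.ext (by simp [mul_assoc])
      right_inv := fun m => Subtype.ext (by simp [mul_assoc]) } _ _ fun n => ?_).symm
  show g • (n : P) • x = (g * n * g⁻¹) • g • x
  rw [mul_smul, inv_smul_smul, mul_smul]

omit [Finite E] [FaithfulSMul P E] in
theorem trace_of_fixed {N : Subgroup P} {x : E} (h : ∀ n ∈ N, n • x = x) :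
    trace N x = Nat.card N • x := by
  haveI := Fintype.ofFinite N
  rw [trace_apply, Finset.sum_congr rfl (fun (n : N) _ => h n n.2), Finset.sum_const,
    Nat.card_eq_fintype_card, Finset.card_univ]

variable (hP : IsPGroup p P) (hq : q.Prime) (hne : p ≠ q) (hE : ∀ e : E, q • e = 0)
  (hconst : ∀ a b : E, a ≠ 0 → b ≠ 0 → Nat.card (stabilizer P a) = Nat.card (stabilizer P b))

include hP hq hne hE hconst

/-- A non-trivial normal subgroup fixes only zero. -/
theorem fixed_eq_zero {N : Subgroup P} (hN : N.Normal) (hN1 : N ≠ ⊥) {a : E}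
    (ha : ∀ n ∈ N, n • a = a) : a = 0 := by
  by_contra ha0
  obtain ⟨k, hk⟩ := IsPGroup.iff_card.1 (hP.to_subgroup N)
  obtain ⟨n, hn, hn1⟩ := N.bot_or_exists_ne_one.resolve_left hN1
  obtain ⟨x, hx⟩ : ∃ x : E, n • x ≠ x := by
    by_contra h
    push Not at h
    exact hn1 (eq_of_smul_eq_smul fun x : E => by rw [h x, one_smul])
  have hcancel : ∀ {y z : E}, p ^ k • y = p ^ k • z → y = z := fun {y z} h =>
    sub_eq_zero.1 (eq_zero_of_smul hpf.out hq hne hE (by rw [smul_sub, h, sub_self]))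
  have hcomm : ∀ (g : P) (y : E), trace N (g • y) = g • trace N y := fun g y =>
    trace_conj (fun m => ⟨fun hm => hN.conj_mem m hm g, fun hm => by
      simpa [mul_assoc] using hN.conj_mem _ hm g⁻¹⟩) y
  have key : ∀ a b : E, (∀ m ∈ N, m • a = a) → a ≠ 0 → trace N b = 0 → b ≠ 0 →
      stabilizer P b = stabilizer P a := by
    intro a b ha ha0 hb hb0
    have hab : a + b ≠ 0 := by
      intro h
      have h' := congrArg (trace N) h
      rw [map_add, trace_of_fixed ha, hb, add_zero, map_zero, hk] at h'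
      exact ha0 (eq_zero_of_smul hpf.out hq hne hE h')
    have hle : stabilizer P (a + b) ≤ stabilizer P a ⊓ stabilizer P b := by
      intro g hg
      have hg' : g • (a + b) = a + b := hg
      have h1 := congrArg (trace N) hg'
      rw [hcomm, map_add, trace_of_fixed ha, hb, add_zero, hk, smul_comm g (p ^ k) a] at h1
      have hga : g • a = a := hcancel h1
      exact ⟨hga, by rw [smul_add, hga] at hg'; exact add_left_cancel hg'⟩
    have e1 := Subgroup.eq_of_le_of_card_ge (hle.trans inf_le_left) (hconst a _ ha0 hab).le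
    have e2 := Subgroup.eq_of_le_of_card_ge (hle.trans inf_le_right) (hconst b _ hb0 hab).le
    rw [← e1, ← e2]
  set b := n • x - x with hbdef
  have hb : trace N b = 0 := by rw [hbdef, map_sub, trace_smul_self hn, sub_self]
  have hb0 : b ≠ 0 := sub_ne_zero.2 hx
  refine hn1 (eq_of_smul_eq_smul fun y : E => ?_)
  rw [one_smul]
  have hnb : ∀ z : E, trace N z = 0 → n • z = z := by
    intro z hz
    by_cases hz0 : z = 0
    · rw [hz0, smul_zero]
    exact (SetLike.ext_iff.1 (key a z ha ha0 hz hz0) n).2 (ha n hn)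
  have h1 : trace N (p ^ k • y - trace N y) = 0 := by
    rw [map_sub, map_nsmul, trace_of_fixed (fun m hm => smul_trace hm y), hk, sub_self]
  have h2 := hnb _ h1
  rw [smul_sub, smul_trace hn, sub_left_inj, smul_comm n (p ^ k) y] at h2
  exact hcancel h2

/-- A `p`-group with constant stabilizers has no normal non-cyclic subgroup of order `p ^ 2`. -/
theorem no_normal_sq (hp2 : p ≠ 2) {W : Subgroup P} (hW : W.Normal)
    (hWe : Cfsg.IsElementaryAbelian p W) (hWc : Nat.card W = p ^ 2) (hEne : ∃ x : E, x ≠ 0) :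
    False := by
  classical
  have hp := hpf.out
  haveI := hP.isNilpotent
  obtain ⟨hab, hexp⟩ := hWe
  have hpow : ∀ w ∈ W, w ^ p = 1 := hexp
  have hcomm : ∀ u ∈ W, ∀ v ∈ W, u * v = v * u := fun u hu v hv =>
    congrArg Subtype.val (hab.is_comm.comm (⟨u, hu⟩ : W) ⟨v, hv⟩)
  have hWne : W ≠ ⊥ := fun h => by
    rw [h, Subgroup.card_bot] at hWc
    exact absurd hWc (Nat.one_lt_pow two_ne_zero hp.one_lt).ne
  haveI := hW
  obtain ⟨z, hzW, hz1⟩ :=
    (W ⊓ Subgroup.center P).bot_or_exists_ne_one.resolve_left (Cores.inf_center_ne_bot hWne)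
  obtain ⟨hzW, hzc⟩ := Subgroup.mem_inf.1 hzW
  have hord : ∀ w ∈ W, w ≠ 1 → orderOf w = p := fun w hw h => orderOf_eq_prime (hpow w hw) h
  -- two elements generate `W`
  have hgen : ∀ u ∈ W, ∀ v ∈ W, u ≠ 1 → v ∉ Subgroup.zpowers u → ∀ x : E,
      u • x = x → v • x = x → ∀ w ∈ W, w • x = x := by
    intro u hu v hv hu1 hvu x hux hvx w hw
    have hle : Subgroup.closure ({u, v} : Set P) ≤ W :=
      (Subgroup.closure_le _).2 (by rintro _ (rfl | rfl) <;> assumption)
    have heq : Subgroup.closure ({u, v} : Set P) = W := by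
      refine Subgroup.eq_of_le_of_card_ge hle ?_
      have hlt : Subgroup.zpowers u < Subgroup.closure ({u, v} : Set P) :=
        SetLike.lt_iff_le_and_exists.2 ⟨Subgroup.zpowers_le.2 (Subgroup.subset_closure (Or.inl rfl)),
          v, Subgroup.subset_closure (Or.inr rfl), hvu⟩
      have h1 : p < Nat.card (Subgroup.closure ({u, v} : Set P)) := by
        rw [← hord u hu hu1, ← Nat.card_zpowers]
        exact Set.ncard_lt_ncard (SetLike.coe_ssubset_coe.2 hlt) (Set.toFinite _)
      obtain ⟨i, hi, hic⟩ := (Nat.dvd_prime_pow hp).1 (hWc ▸ Subgroup.card_dvd_of_le hle)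
      rw [hic] at h1 ⊢
      rw [hWc]
      interval_cases i
      · rw [pow_zero] at h1; exact absurd h1 hp.one_lt.not_gt
      · rw [pow_one] at h1; exact absurd h1 (lt_irrefl _)
      · exact le_rfl
    have : Subgroup.closure ({u, v} : Set P) ≤ stabilizer P x :=
      (Subgroup.closure_le _).2 (by rintro _ (rfl | rfl) <;> assumption)
    exact this (heq ▸ hw)
  have hW0 : ∀ x : E, (∀ w ∈ W, w • x = x) → x = 0 := fun x h =>
    fixed_eq_zero hP hq hne hE hconst hW hWne h
  have hcentral : ∀ w ∈ W, w ∈ Subgroup.center P → w ≠ 1 → ∀ x : E, w • x = x → x = 0 := by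
    intro w _ hwc hw1 x hx
    refine fixed_eq_zero hP hq hne hE hconst (N := Subgroup.zpowers w) ?_ (Subgroup.zpowers_ne_bot.2 hw1)
      (fun m hm => (Subgroup.zpowers_le.2 (show w ∈ stabilizer P x from hx) : _) hm)
    exact ⟨fun m hm g => by
      rw [Subgroup.mem_center_iff.1 ((Subgroup.zpowers_le.2 hwc : _) hm) g, mul_inv_cancel_right]
      exact hm⟩
  -- some non-identity element of `W` fixes a non-zero vector
  obtain ⟨u, hu, hu1, a, ha0, hua⟩ : ∃ u ∈ W, u ≠ 1 ∧ ∃ a : E, a ≠ 0 ∧ u • a = a := by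
    by_contra hno
    push Not at hno
    obtain ⟨x, hx⟩ := hEne
    obtain ⟨w, hw, hwz⟩ : ∃ w ∈ W, w ∉ Subgroup.zpowers z := by
      by_contra h
      push Not at h
      have := Nat.le_of_dvd Nat.card_pos (Subgroup.card_dvd_of_le (show W ≤ Subgroup.zpowers z from h))
      rw [hWc, Nat.card_zpowers, hord z hzW hz1] at this
      nlinarith [hp.two_le]
    have hsum0 : ∀ u ∈ W, u ≠ 1 → ∀ y : E, ∑ i ∈ Finset.range p, u ^ i • y = 0 := by
      intro u hu hu1 y
      have hfix : u • ∑ i ∈ Finset.range p, u ^ i • y = ∑ i ∈ Finset.range p, u ^ i • y := by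
        have h1 := Finset.sum_range_succ' (fun i => u ^ i • y) p
        have h2 := Finset.sum_range_succ (fun i => u ^ i • y) p
        rw [h2, hpow u hu, pow_zero] at h1
        rw [Finset.smul_sum]
        simp only [smul_smul, ← pow_succ']
        exact (add_right_cancel h1).symm
      by_contra h
      exact hno u hu hu1 _ h hfix
    have hcomb : ∑ i ∈ Finset.range p, ∑ j ∈ Finset.range p, (w * z ^ i) ^ j • x = p • x := by
      rw [Finset.sum_comm, Finset.sum_eq_single 0]
      · simp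
      · intro j hj hj0
        simp only [Commute.mul_pow (hcomm w hw _ (pow_mem hzW _)), mul_smul, ← pow_mul]
        rw [← Finset.smul_sum]
        have hzj : z ^ j ≠ 1 :=
          pow_ne_one_of_lt_orderOf hj0 (by rw [hord z hzW hz1]; exact Finset.mem_range.1 hj)
        have hh := hsum0 _ (pow_mem hzW j) hzj x
        simp only [← pow_mul, mul_comm j] at hh
        rw [hh, smul_zero]
      · intro h; exact absurd (Finset.mem_range.2 hp.pos) h
    rw [Finset.sum_eq_zero fun i _ => hsum0 _ (mul_mem hw (pow_mem hzW i)) (fun h => hwz (by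
      rw [mul_eq_one_iff_eq_inv] at h
      rw [h]; exact inv_mem (pow_mem (Subgroup.mem_zpowers z) i))) x] at hcomb
    exact hx (eq_zero_of_smul hp hq hne hE (k := 1) (by rw [pow_one]; exact hcomb.symm))
  -- conjugation fixes the lines of `W` it stabilizes
  have hline : ∀ u ∈ W, u ≠ 1 → ∀ g : P, g * u * g⁻¹ ∈ Subgroup.zpowers u → g * u * g⁻¹ = u := by
    intro u hu hu1 g hg
    obtain ⟨k, hk⟩ := (IsOfFinOrder.mem_powers_iff_mem_zpowers (isOfFinOrder_of_finite u)).2 hg
    simp only at hk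
    have hiter : ∀ i : ℕ, g ^ i * u * (g ^ i)⁻¹ = u ^ k ^ i := by
      intro i
      induction i with
      | zero => simp
      | succ i ih =>
        calc g ^ (i + 1) * u * (g ^ (i + 1))⁻¹ = g * (g ^ i * u * (g ^ i)⁻¹) * g⁻¹ := by
              rw [pow_succ']; group
          _ = (g * u * g⁻¹) ^ k ^ i := by rw [ih, conj_pow]
          _ = u ^ k ^ (i + 1) := by rw [← hk, ← pow_mul, pow_succ']
    obtain ⟨e, he⟩ := IsPGroup.iff_orderOf.1 hP g
    have h1 := hiter (p ^ e)
    rw [← he, pow_orderOf_eq_one, one_mul, inv_one, mul_one, he] at h1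
    have h2 : k ^ p ^ e ≡ 1 [MOD p] := by
      have h3 : u ^ k ^ p ^ e = u ^ 1 := by rw [pow_one]; exact h1.symm
      rw [pow_eq_pow_iff_modEq, hord u hu hu1] at h3
      exact h3
    have h3 : (k : ZMod p) = 1 := by
      have h4 := (ZMod.natCast_eq_natCast_iff _ _ _).2 h2
      rw [Nat.cast_pow, ZMod.pow_card_pow, Nat.cast_one] at h4
      exact h4
    rw [← hk]
    have h4 : k ≡ 1 [MOD p] := (ZMod.natCast_eq_natCast_iff _ _ _).1 (by rw [h3, Nat.cast_one])
    rw [← hord u hu hu1, ← pow_eq_pow_iff_modEq, pow_one] at h4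
    exact h4
  obtain ⟨g, hg⟩ : ∃ g : P, g * u * g⁻¹ ≠ u := by
    by_contra h
    push Not at h
    exact ha0 (hcentral u hu (Subgroup.mem_center_iff.2 fun g => mul_inv_eq_iff_eq_mul.1 (h g)) hu1 a hua)
  set v := g * u * g⁻¹ with hv
  have hvW : v ∈ W := hW.conj_mem u hu g
  have hv1 : v ≠ 1 := by rwa [hv, Ne, conj_eq_one_iff]
  have hvu : v ∉ Subgroup.zpowers u := fun h => hg (hline u hu hu1 g h)
  set b := g • a with hb
  have hb0 : b ≠ 0 := by rwa [hb, Ne, smul_eq_zero_iff_eq]
  have hvb : v • b = b := by rw [hv, hb, mul_smul, inv_smul_smul, mul_smul, hua]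
  have hfix_trace : ∀ {u' : P}, u' ∈ W → ∀ {c : E} {w : P}, w ∈ W → w • c = c → u' ≠ 1 →
      w ∉ Subgroup.zpowers u' → trace (Subgroup.zpowers u') c = 0 := by
    intro u' hu' c w hw hwc hu'1 hwu
    refine hW0 _ (hgen u' hu' w hw hu'1 hwu _ (smul_trace (Subgroup.mem_zpowers u') c) ?_)
    have hmem : ∀ n, n ∈ Subgroup.zpowers u' ↔ w * n * w⁻¹ ∈ Subgroup.zpowers u' := by
      intro n
      constructor
      · intro hn
        have hnW : n ∈ W := (Subgroup.zpowers_le.2 hu' : _) hn
        rwa [hcomm w hw n hnW, mul_inv_cancel_right]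
      · intro hn
        have hnW : w * n * w⁻¹ ∈ W := (Subgroup.zpowers_le.2 hu' : _) hn
        have : n = w * n * w⁻¹ := by
          calc n = w⁻¹ * (w * n * w⁻¹) * w := by group
            _ = w * n * w⁻¹ := by rw [mul_assoc, hcomm _ hnW w hw, inv_mul_cancel_left]
        rwa [this]
    rw [← trace_conj hmem c, hwc]
  have hbne : a + b ≠ 0 := by
    intro h
    have hb' : b = -a := eq_neg_of_add_eq_zero_right h
    refine ha0 (hW0 a (hgen u hu v hvW hu1 hvu a hua ?_))
    have := hvb
    rw [hb', smul_neg, neg_inj] at this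
    exact this
  have hle : stabilizer P (a + b) ≤ stabilizer P a ⊓ stabilizer P b := by
    intro h hh
    have hh' : h • (a + b) = a + b := hh
    -- `h` fixes the line of `u` or moves it to the line of `v`
    have key : ∀ {u₀ v₀ : P} {a₀ b₀ : E}, u₀ ∈ W → v₀ ∈ W → u₀ ≠ 1 → u₀ • a₀ = a₀ → v₀ • b₀ = b₀ →
        v₀ ∉ Subgroup.zpowers u₀ → a₀ ≠ 0 → h • (a₀ + b₀) = a₀ + b₀ →
        (h * u₀ * h⁻¹ ∈ Subgroup.zpowers u₀ → h • a₀ = a₀ ∧ h • b₀ = b₀) ∧
        (h * u₀ * h⁻¹ ∈ Subgroup.zpowers u₀ ∨ h * u₀ * h⁻¹ ∈ Subgroup.zpowers v₀) := by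
      intro u₀ v₀ a₀ b₀ hu₀ hv₀ hu₀1 hua₀ hvb₀ hvu₀ ha₀ hh₀
      set u' := h * u₀ * h⁻¹ with hu'
      have hu'W : u' ∈ W := hW.conj_mem u₀ hu₀ h
      have hu'1 : u' ≠ 1 := by rwa [hu', Ne, conj_eq_one_iff]
      have e1 : trace (Subgroup.zpowers u') (a₀ + b₀) = h • (p • a₀) := by
        conv_lhs => rw [← hh₀]
        rw [trace_conj (N := Subgroup.zpowers u₀), map_add,
          hfix_trace hu₀ hv₀ hvb₀ hu₀1 hvu₀, add_zero,
          trace_of_fixed (fun m hm => (Subgroup.zpowers_le.2
            (show u₀ ∈ stabilizer P a₀ from hua₀) : _) hm),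
          Nat.card_zpowers, hord u₀ hu₀ hu₀1]
        intro n
        rw [show Subgroup.zpowers u' = (Subgroup.zpowers u₀).map (MulAut.conj h).toMonoidHom by
          rw [MonoidHom.map_zpowers]; rfl, Subgroup.mem_map_equiv, MulAut.conj_symm_apply]
        simp [mul_assoc]
      refine ⟨fun hm => ?_, ?_⟩
      · have h' := hline u₀ hu₀ hu₀1 h hm
        rw [← hu'] at h'
        rw [h', map_add, hfix_trace hu₀ hv₀ hvb₀ hu₀1 hvu₀, add_zero,
          trace_of_fixed (fun m hm => (Subgroup.zpowers_le.2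
            (show u₀ ∈ stabilizer P a₀ from hua₀) : _) hm),
          Nat.card_zpowers, hord u₀ hu₀ hu₀1, smul_comm h p a₀] at e1
        have hha : h • a₀ = a₀ := sub_eq_zero.1
          (eq_zero_of_smul hp hq hne hE (k := 1) (by rw [pow_one, smul_sub, e1, sub_self]))
        exact ⟨hha, by rw [smul_add, hha] at hh₀; exact add_left_cancel hh₀⟩
      · by_contra hc
        push Not at hc
        have hswap : ∀ {w : P}, w ∈ W → w ≠ 1 → u' ∉ Subgroup.zpowers w → w ∉ Subgroup.zpowers u' := by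
          intro w hw hw1 hn hm
          refine hn ?_
          rw [Subgroup.eq_of_le_of_card_ge (Subgroup.zpowers_le.2 hm)
            (by rw [Nat.card_zpowers, Nat.card_zpowers, hord w hw hw1, hord u' hu'W hu'1])]
          exact Subgroup.mem_zpowers u'
        have hv₀1 : v₀ ≠ 1 := fun e => hvu₀ (e ▸ one_mem _)
        rw [map_add, hfix_trace hu'W hu₀ hua₀ hu'1 (hswap hu₀ hu₀1 hc.1),
          hfix_trace hu'W hv₀ hvb₀ hu'1 (hswap hv₀ hv₀1 hc.2), add_zero] at e1
        exact ha₀ (eq_zero_of_smul hp hq hne hE (k := 1)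
          (by rw [pow_one]; exact (smul_eq_zero_iff_eq h).1 e1.symm))
    have huv : u ∉ Subgroup.zpowers v := by
      intro hm
      refine hvu ?_
      rw [Subgroup.eq_of_le_of_card_ge (Subgroup.zpowers_le.2 hm)
        (by rw [Nat.card_zpowers, Nat.card_zpowers, hord u hu hu1, hord v hvW hv1])]
      exact Subgroup.mem_zpowers v
    obtain ⟨k1, k2⟩ := key hu hvW hu1 hua hvb hvu ha0 hh'
    rcases k2 with hm | hm
    · exact k1 hm
    obtain ⟨k1', k2'⟩ := key hvW hu hv1 hvb hua huv hb0 (by rw [add_comm]; exact hh')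
    rcases k2' with hm' | hm'
    · exact (k1' hm').symm
    exfalso
    -- `h` would interchange the two lines
    have hconjz : ∀ {x y : P}, y ∈ Subgroup.zpowers x → h * y * h⁻¹ ∈ Subgroup.zpowers (h * x * h⁻¹) := by
      intro x y hy
      obtain ⟨i, rfl⟩ := Subgroup.mem_zpowers_iff.1 hy
      rw [← conj_zpow]
      exact Subgroup.zpow_mem_zpowers _ i
    have h2u : h * h * u * (h * h)⁻¹ = u := by
      refine hline u hu hu1 (h * h) ?_
      have := (Subgroup.zpowers_le.2 hm' : _) (hconjz hm)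
      rwa [show h * h * u * (h * h)⁻¹ = h * (h * u * h⁻¹) * h⁻¹ by group]
    have hcom : Commute (h * h) u := mul_inv_eq_iff_eq_mul.1 h2u
    have hodd : Odd (orderOf h) := by
      obtain ⟨e, he⟩ := IsPGroup.iff_orderOf.1 hP h
      rw [he]; exact (hp.odd_of_ne_two hp2).pow
    obtain ⟨m, hm2⟩ := hodd
    have hpowh : (h * h) ^ (m + 1) = h := by
      rw [← sq, ← pow_mul, show 2 * (m + 1) = orderOf h + 1 by omega, pow_succ, pow_orderOf_eq_one,
        one_mul]
    have hh2 : Commute h u := hpowh ▸ hcom.pow_left (m + 1)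
    rw [hh2.eq, mul_inv_cancel_right] at hm
    exact huv hm
  have e1 := Subgroup.eq_of_le_of_card_ge (hle.trans inf_le_left) (hconst a _ ha0 hbne).le
  have e2 := Subgroup.eq_of_le_of_card_ge (hle.trans inf_le_right) (hconst b _ hb0 hbne).le
  have hub : u • b = b := by
    have : u ∈ stabilizer P b := e2 ▸ e1.symm ▸ (show u ∈ stabilizer P a from hua)
    exact this
  exact hb0 (hW0 b (hgen u hu v hvW hu1 hvu b hub hvb))

/-- The main theorem away from the defining characteristic. -/
theorem cyclic_semiregular (hp2 : p ≠ 2) :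
    IsCyclic P ∧ ∀ g : P, g ≠ 1 → ∀ a : E, g • a = a → a = 0 := by
  by_cases hEne : ∃ x : E, x ≠ 0
  · have hcyc : IsCyclic P := by
      by_contra hc
      obtain ⟨W, -, hWn, hWe, hWc⟩ := PLocal.CyclicExtension.exists_normal_elementaryAbelian_sq hp2 hP ⊤
        (fun h => hc ((Subgroup.topEquiv (G := P)).isCyclic.1 h))
      exact no_normal_sq hP hq hne hE hconst hp2 hWn hWe hWc hEne
    refine ⟨hcyc, fun g hg a ha => ?_⟩
    letI := hcyc.commGroup
    exact fixed_eq_zero hP hq hne hE hconst (N := Subgroup.zpowers g) inferInstance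
      (Subgroup.zpowers_ne_bot.2 hg)
      (fun m hm => (Subgroup.zpowers_le.2 (show g ∈ stabilizer P a from ha) : _) hm)
  · push Not at hEne
    have : Subsingleton P := ⟨fun g h => eq_of_smul_eq_smul fun x : E => by
      rw [hEne x, smul_zero, smul_zero]⟩
    exact ⟨inferInstance, fun g hg => absurd (Subsingleton.elim g 1) hg⟩

end Cfsg.Agent.Involutions.HalfTransitive
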